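import Cfsg.Agent.OddOrderCharacters.PF8.Core
import Cfsg.Agent.OddOrderCharacters.WeakTypes
import Cfsg.Agent.OddOrderCharacters.TypePHyp
import Cfsg.Agent.OddOrderCharacters.DadeBasic
import Cfsg.Agent.OddOrderLocal.W.S1391w
import Cfsg.Agent.S1355

/-!
# Peterfalvi (8.12)–(8.16): the Dade hypotheses of a maximal subgroup, for the primed sets

`A₁(M) ⊆ A'(M) ⊆ A₀'(M)`; (8.15) Dade hypothesis for the three sets; (8.16) type II; the three Dade maps agree.
-/

set_option autoImplicit false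

namespace Cfsg.Agent.OddOrderCharacters.PF8

open Cfsg Cfsg.Agent.OddOrderCharacters.TypeSetsBasic Cfsg.Agent.OddOrderCharacters.TypeExclusive
  Cfsg.Agent.OddOrderCharacters.PFDefs Cfsg.Agent.OddOrderCharacters.WeakTypes

universe u

variable {G : Type u} [Group G]

/-! ### General facts on Dade hypotheses -/

/-- The Dade hypothesis passes to an `L`-invariant subset. -/
theorem dadeHypothesis_mono {A A₀ : Set G} {L : Subgroup G} {H : G → Subgroup G}
    (h : DadeHypothesis A₀ L H) (hA : A ⊆ A₀) (hconj : ∀ x ∈ L, ∀ a ∈ A, x * a * x⁻¹ ∈ A) :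
    DadeHypothesis A L H where
  one_not_mem := fun h1 => h.one_not_mem (hA h1)
  subset := hA.trans h.subset
  conj_mem := hconj
  fusion := fun a ha g hg => h.fusion a (hA ha) g (hA hg)
  le_centralizer := fun a ha => h.le_centralizer a (hA ha)
  conj_mem_H := fun a ha => h.conj_mem_H a (hA ha)
  inf_eq_bot := fun a ha => h.inf_eq_bot a (hA ha)
  sup_eq := fun a ha => h.sup_eq a (hA ha)
  coprime := fun a ha b hb => h.coprime a (hA ha) b (hA hb)

/-- The Dade maps for `A ⊆ A₀` agree on the class functions vanishing off `A`. -/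
theorem dadeIsometry_mono [Finite G] {A A₀ : Set G} {L : Subgroup G} {H : G → Subgroup G}
    (h : DadeHypothesis A₀ L H) (hA : A ⊆ A₀) (hconj : ∀ x ∈ L, ∀ a ∈ A, x * a * x⁻¹ ∈ A)
    (α : ↥L → ℂ) (hα : IsClassFunction ↥L α) (hαA : ∀ x : ↥L, (x : G) ∉ A → α x = 0) :
    dadeIsometry A L H α = dadeIsometry A₀ L H α := by
  have h' := dadeHypothesis_mono h hA hconj
  funext g
  by_cases hg : g ∈ DadeBasic.Supp A H
  · obtain ⟨a, ha, u, hu, x, hx⟩ := hg
    rw [DadeBasic.dadeIsometry_apply h' hα ⟨a, h'.subset ha⟩ ha hu hx,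
      DadeBasic.dadeIsometry_apply h hα ⟨a, h'.subset ha⟩ (hA ha) hu hx]
  · rw [DadeBasic.dadeIsometry_eq_zero hg]
    by_cases hg0 : g ∈ DadeBasic.Supp A₀ H
    · obtain ⟨a, ha, u, hu, x, hx⟩ := hg0
      rw [DadeBasic.dadeIsometry_apply h hα ⟨a, h.subset ha⟩ ha hu hx, hαA]
      exact fun haA => hg ⟨a, haA, u, hu, x, hx⟩
    · rw [DadeBasic.dadeIsometry_eq_zero hg0]

/-! ### The sets `A₁(M) ⊆ A'(M) ⊆ A₀'(M)` -/

section minSimple

variable [Finite G]

theorem typeA1_subset_typeA' (hG : IsMinSimpleOddOrder G) {M : Subgroup G} (hM : IsCoatom M) :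
    typeA1 M ⊆ typeA' M := by
  intro a ha
  rw [mem_typeA1] at ha
  by_cases hP : IsOfTypeP M
  · rw [mem_typeA'_of_P hP]
    exact ⟨typeCore_le_derived hG hM ha.1, ha.2, a, ha.1, ha.2, rfl⟩
  · rw [mem_typeA'_of_not_P hP]
    exact ⟨typeCore_le M ha.1, ha.2, a, typeCore_of_not_P hP ▸ ha.1, ha.2, rfl⟩

theorem typeA1_subset_typeA0' (hG : IsMinSimpleOddOrder G) {M : Subgroup G} (hM : IsCoatom M) :
    typeA1 M ⊆ typeA0' M :=
  (typeA1_subset_typeA' hG hM).trans (typeA'_subset_typeA0' M)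

theorem exists_mem_typeA1 (hG : IsMinSimpleOddOrder G) {M : Subgroup G} (hM : IsCoatom M) :
    ∃ a ∈ typeA1 M, a ≠ 1 := by
  obtain ⟨⟨x, hx⟩, hx1⟩ := Subgroup.ne_bot_iff_exists_ne_one.1 (fittingHallOf_ne_bot hG hM)
  have hx2 : x ≠ 1 := fun h => hx1 (Subtype.ext h)
  exact ⟨x, mem_typeA1.2 ⟨fittingHallOf_le_typeCore hG hM hx, hx2⟩, hx2⟩

/-- (8.15) for `A₀'(M)` -/
theorem dadeHyp_typeA0 (hG : IsMinSimpleOddOrder G) {M : Subgroup G} (hM : IsCoatom M) :
    DadeHypothesis (typeA0' M) M (supportR M) := by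
  obtain ⟨hfus, hD, hL⟩ := Cfsg.Agent.OddOrderLocal.W.S1391w.result' hG M hM (typeA0' M) (Or.inr rfl)
  -- the two cases for an element of `A₀'(M)`
  have key : ∀ a ∈ typeA0' M,
      (Subgroup.centralizer ({a} : Set G) ≤ M ∧ supportR M a = ⊥) ∨
      ∃ L : Subgroup G, IsCoatom L ∧ Subgroup.centralizer ({a} : Set G) ≤ L ∧
        ¬ Subgroup.centralizer ({a} : Set G) ≤ M ∧
        supportR M a = fittingHallOf L ⊓ Subgroup.centralizer ({a} : Set G) := by
    intro a ha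
    by_cases hc : Subgroup.centralizer ({a} : Set G) ≤ M
    · exact Or.inl ⟨hc, supportR_of_centralizer_le hc⟩
    · obtain ⟨L, ⟨hL1, hL2⟩, hL3⟩ := (hD a ha hc).2
      exact Or.inr ⟨L, hL1, hL2, hc,
        supportR_of_unique hc hL1 hL2 fun L' h1 h2 => hL3 L' ⟨h1, h2⟩⟩
  refine ⟨one_not_mem_typeA0' M, typeA0'_subset M, fun m hm a ha => typeA0'_conj_mem hm ha,
    hfus, ?_, ?_, ?_, ?_, ?_⟩
  · intro a _
    exact supportR_le_centralizer M a
  · intro a ha c hc u hu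
    rcases key a ha with ⟨-, h2⟩ | ⟨L, h1, h2, h3, h4⟩
    · rw [h2, Subgroup.mem_bot] at hu
      rw [h2, hu, Subgroup.mem_bot]
      simp
    · rw [h4] at hu ⊢
      exact Subgroup.le_normalizer_iff.1 (hL a ha h3 L h1 h2).2.1 c hc u hu
  · intro a ha
    rcases key a ha with ⟨-, h2⟩ | ⟨L, h1, h2, h3, h4⟩
    · rw [h2, bot_inf_eq]
    · rw [h4]
      exact (hL a ha h3 L h1 h2).2.2.1.2.2.1
  · intro a ha
    rcases key a ha with ⟨h1, h2⟩ | ⟨L, h1, h2, h3, h4⟩
    · rw [h2, bot_sup_eq]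
      exact inf_eq_right.2 h1
    · rw [h4]
      obtain ⟨h5, h6, -, h7⟩ := (hL a ha h3 L h1 h2).2.2.1
      refine le_antisymm (sup_le h5 h6) ?_
      intro m hm
      obtain ⟨x, hx, y, hy, rfl⟩ := h7 m hm
      exact Subgroup.mul_mem_sup hx hy
  · intro a ha b hb
    rcases key a ha with ⟨h1, h2⟩ | ⟨L, h1, h2, h3, h4⟩
    · rw [h2]
      simp
    · rw [h4]
      exact Nat.Coprime.coprime_dvd_left (Subgroup.card_dvd_of_le inf_le_left)
        ((hL a ha h3 L h1 h2).2.2.2.1 b hb)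

/-- (8.15) for `A'(M)` -/
theorem dadeHyp_typeA (hG : IsMinSimpleOddOrder G) {M : Subgroup G} (hM : IsCoatom M) :
    DadeHypothesis (typeA' M) M (supportR M) :=
  dadeHypothesis_mono (dadeHyp_typeA0 hG hM) (typeA'_subset_typeA0' M)
    fun _ hm _ ha => typeA'_conj_mem hm ha

/-- (8.15) for `A₁(M)` -/
theorem dadeHyp_typeA1 (hG : IsMinSimpleOddOrder G) {M : Subgroup G} (hM : IsCoatom M) :
    DadeHypothesis (typeA1 M) M (supportR M) :=
  dadeHypothesis_mono (dadeHyp_typeA0 hG hM) (typeA1_subset_typeA0' hG hM)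
    fun _ hm _ ha => typeA1_conj_mem hm ha

theorem normalizer_typeA0 (hG : IsMinSimpleOddOrder G) {M : Subgroup G} (hM : IsCoatom M) :
    Subgroup.normalizer (typeA0' M) = M ∧ Subgroup.normalizer (typeA' M) = M ∧
      Subgroup.normalizer (typeA1 M) = M := by
  have hS : IsSimpleGroup G := hG.2.1
  obtain ⟨a, ha, ha1⟩ := exists_mem_typeA1 hG hM
  exact ⟨normalizer_eq_of_coatom hM (typeA0'_subset M) (fun _ hm _ ha => typeA0'_conj_mem hm ha)
      (typeA1_subset_typeA0' hG hM ha) ha1,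
    normalizer_eq_of_coatom hM (typeA'_subset M) (fun _ hm _ ha => typeA'_conj_mem hm ha)
      (typeA1_subset_typeA' hG hM ha) ha1,
    normalizer_eq_of_coatom hM (typeA1_subset M) (fun _ hm _ ha => typeA1_conj_mem hm ha)
      ha ha1⟩

/-- The three Dade maps of `M` agree. -/
theorem dadeIsometry_eq (hG : IsMinSimpleOddOrder G) {M : Subgroup G} (hM : IsCoatom M)
    (A : Set G) (hA : A = typeA' M ∨ A = typeA1 M) (α : ↥M → ℂ) (hα : IsClassFunction ↥M α)
    (hαA : ∀ x : ↥M, (x : G) ∉ A → α x = 0) :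
    dadeIsometry A M (supportR M) α = dadeIsometry (typeA0' M) M (supportR M) α := by
  rcases hA with rfl | rfl
  · exact dadeIsometry_mono (dadeHyp_typeA0 hG hM) (typeA'_subset_typeA0' M)
      (fun _ hm _ ha => typeA'_conj_mem hm ha) α hα hαA
  · exact dadeIsometry_mono (dadeHyp_typeA0 hG hM) (typeA1_subset_typeA0' hG hM)
      (fun _ hm _ ha => typeA1_conj_mem hm ha) α hα hαA

/-- `tauOf M` on class functions vanishing off `A'(M)` or `A₁(M)`. -/
theorem tauOf_eq (hG : IsMinSimpleOddOrder G) {M : Subgroup G} (hM : IsCoatom M)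
    (A : Set G) (hA : A = typeA' M ∨ A = typeA1 M) (α : ↥M → ℂ) (hα : IsClassFunction ↥M α)
    (hαA : ∀ x : ↥M, (x : G) ∉ A → α x = 0) :
    tauOf M α = dadeIsometry A M (supportR M) α :=
  (dadeIsometry_eq hG hM A hA α hα hαA).symm

/-! ### `R(x) = 1` -/

theorem centralizer_le_of_not_mem_typeA1 (hG : IsMinSimpleOddOrder G) {M : Subgroup G}
    (hM : IsCoatom M) {x : G} (hx : x ∈ typeA0' M) (hx1 : x ∉ typeA1 M) :
    Subgroup.centralizer ({x} : Set G) ≤ M := by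
  by_contra hc
  obtain ⟨-, hD, -⟩ := Cfsg.Agent.OddOrderLocal.W.S1391w.result' hG M hM (typeA0' M) (Or.inr rfl)
  exact hx1 (hD x hx hc).1

/-- `R(x) = 1` off `A₁(M)`. -/
theorem supportR_eq_bot (hG : IsMinSimpleOddOrder G) {M : Subgroup G} (hM : IsCoatom M) {x : G}
    (hx : x ∈ typeA0' M) (hx1 : x ∉ typeA1 M) :
    supportR M x = ⊥ ∧ Subgroup.centralizer ({x} : Set G) ≤ M :=
  have h := centralizer_le_of_not_mem_typeA1 hG hM hx hx1
  ⟨supportR_of_centralizer_le h, h⟩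

/-- If an `M`-invariant TI subgroup `N ≤ M` contains `x ≠ 1` then `C_G(x) ≤ M`. -/
theorem centralizer_le_of_TI (hG : IsMinSimpleOddOrder G) {M : Subgroup G} (hM : IsCoatom M)
    {N : Subgroup G} (hNM : N ≤ M) (hN : ∀ m ∈ M, ∀ a ∈ N, m * a * m⁻¹ ∈ N)
    (hTI : IsTISubset (N : Set G)) {x : G} (hx : x ∈ N) (hx1 : x ≠ 1) :
    Subgroup.centralizer ({x} : Set G) ≤ M := by
  have hS : IsSimpleGroup G := hG.2.1
  have hNN : Subgroup.normalizer (N : Set G) = M := normalizer_eq_of_coatom hM hNM hN hx hx1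
  intro c hcx
  by_contra hcM
  have hcx' : c * x * c⁻¹ = x := by
    rw [mem_centralizer_singleton.1 hcx, mul_inv_cancel_right]
  apply hx1
  refine hTI c (by rw [hNN]; exact hcM) x hx ?_
  rw [hcx']
  exact hx

/-- `R(x) = 1` on `A₀(M)` whenever `M_s` is TI. -/
theorem supportR_eq_bot_of_TI (hG : IsMinSimpleOddOrder G) {M : Subgroup G} (hM : IsCoatom M)
    (hTI : IsTISubset (typeCore M : Set G)) {x : G} (hx : x ∈ typeA0' M) :
    supportR M x = ⊥ ∧ Subgroup.centralizer ({x} : Set G) ≤ M := by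
  by_cases hx1 : x ∈ typeA1 M
  · obtain ⟨h1, h2⟩ := mem_typeA1.1 hx1
    have h := centralizer_le_of_TI hG hM (typeCore_le M) (fun m hm a ha => typeCore_conj_mem hm ha)
      hTI h1 h2
    exact ⟨supportR_of_centralizer_le h, h⟩
  · exact supportR_eq_bot hG hM hx hx1

/-- (8.16): for type II all `R(x)` are trivial. -/
theorem supportR_eq_bot_typeII (hG : IsMinSimpleOddOrder G) {M : Subgroup G} (hM : IsCoatom M)
    (hII : IsOfTypeII M) {x : G} (hx : x ∈ typeA0' M) :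
    supportR M x = ⊥ ∧ Subgroup.centralizer ({x} : Set G) ≤ M := by
  by_cases hx1 : x ∈ typeA1 M
  · obtain ⟨h1, h2⟩ := mem_typeA1.1 hx1
    rw [typeCore_of_II hII] at h1
    obtain ⟨W₁, U, W₂, hP, -, -, hTI, -⟩ := hII
    have hFx : x ∈ fittingOf M := by
      rw [← hP.fitting_eq]
      exact Subgroup.mem_sup_left h1
    have h := centralizer_le_of_TI hG hM (fittingOf_le M)
      (fun m hm a ha => map_subtype_conj_mem _ hm ha) hTI hFx h2
    exact ⟨supportR_of_centralizer_le h, h⟩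
  · exact supportR_eq_bot hG hM hx hx1

/-- An `M`-invariant subset `X` of `A₀(M)` with `C_G(x) ≤ M` for `x ∈ X` is a TI-subset (when nonempty, with
normaliser `M`). -/
theorem isTISubset_of_centralizer_le (hG : IsMinSimpleOddOrder G) {M : Subgroup G}
    (hM : IsCoatom M) {X : Set G} (hX : X ⊆ typeA0' M) (hXM : ∀ m ∈ M, ∀ a ∈ X, m * a * m⁻¹ ∈ X)
    (hc : ∀ x ∈ X, Subgroup.centralizer ({x} : Set G) ≤ M) : IsTISubset X := by
  intro g hg x hx hgx
  exfalso
  apply hg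
  have hMX : M ≤ Subgroup.normalizer X := Subgroup.le_set_normalizer_iff.2 hXM
  obtain ⟨m, hm, hmx⟩ := (dadeHyp_typeA0 hG hM).fusion x (hX hx) g (hX hgx)
  have h3 : m⁻¹ * g ∈ Subgroup.centralizer ({x} : Set G) := by
    rw [mem_centralizer_singleton]
    calc m⁻¹ * g * x = m⁻¹ * (g * x * g⁻¹) * g := by group
      _ = m⁻¹ * (m * x * m⁻¹) * g := by rw [hmx]
      _ = x * (m⁻¹ * g) := by group
  have h5 : g = m * (m⁻¹ * g) := by group
  rw [h5]
  exact hMX (M.mul_mem hm (hc x hx h3))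

/-- (8.16), primed form of S1538: for type II the three sets are TI-subsets with normaliser `M`. -/
theorem typeII_TI (hG : IsMinSimpleOddOrder G) {M : Subgroup G} (hM : IsCoatom M)
    (hII : IsOfTypeII M) : (IsTISubset (typeA0' M) ∧ Subgroup.normalizer (typeA0' M) = M) ∧
      (IsTISubset (typeA' M) ∧ Subgroup.normalizer (typeA' M) = M) ∧
      (IsTISubset (typeA1 M) ∧ Subgroup.normalizer (typeA1 M) = M) := by
  obtain ⟨h1, h2, h3⟩ := normalizer_typeA0 hG hM
  exact ⟨⟨isTISubset_of_centralizer_le hG hM subset_rfl (fun _ hm _ ha => typeA0'_conj_mem hm ha)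
      fun x hx => (supportR_eq_bot_typeII hG hM hII hx).2, h1⟩,
    ⟨isTISubset_of_centralizer_le hG hM (typeA'_subset_typeA0' M)
      (fun _ hm _ ha => typeA'_conj_mem hm ha)
      fun x hx => (supportR_eq_bot_typeII hG hM hII (typeA'_subset_typeA0' M hx)).2, h2⟩,
    ⟨isTISubset_of_centralizer_le hG hM (typeA1_subset_typeA0' hG hM)
      (fun _ hm _ ha => typeA1_conj_mem hm ha)
      fun x hx => (supportR_eq_bot_typeII hG hM hII (typeA1_subset_typeA0' hG hM hx)).2, h3⟩⟩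

/-! ### Type P: `A₀'(M)` and the prime Dade hypothesis -/

/-- `A₀'(M)` for any choice of type P data. -/
theorem typeA0_eq {M W₁ U W₂ : Subgroup G} (hP : IsTypePWith M W₁ U W₂) :
    typeA0' M = typeA' M ∪ classSupport (cycTIset (W₁ ⊔ W₂) W₁ W₂) M := by
  have hPM : IsOfTypeP M := ⟨W₁, U, W₂, hP⟩
  rw [typeA0'_eq_of_P hPM, typeA'_eq_of_P hPM]
  exact TypePHyp.typeA0_eq hP

/-- The prime Dade hypothesis (4.6) for a maximal subgroup of type P, with `H = M_s`. -/
theorem primeDadeHyp (hG : IsMinSimpleOddOrder G) {M : Subgroup G} (hM : IsCoatom M)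
    {W₁ U W₂ : Subgroup G} (hP : IsTypePWith M W₁ U W₂) :
    PrimeDadeHyp M ⁅M, M⁆ (typeCore M) (typeA' M) (typeA0' M) (W₁ ⊔ W₂) W₁ W₂ (supportR M) where
  cyclicTI := TypePHyp.cyclicTIHyp hG.1 hP
  primeTI := TypePHyp.primeTIHyp hG.1 hP
  dade := dadeHyp_typeA0 hG hM
  H_normal := fun x hx h hh => typeCore_conj_mem hx hh
  W₂_le := (W₂_le_fittingHallOf hP).trans (fittingHallOf_le_typeCore hG hM)
  H_le := typeCore_le_derived hG hM
  A_normal := fun x hx a ha => typeA'_conj_mem hx ha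
  centralizer_sub := fun h hh h1 k hk k1 hkh => by
    rw [mem_typeA'_of_P ⟨W₁, U, W₂, hP⟩]
    exact ⟨hk, k1, h, hh, h1, hkh⟩
  A_sub := fun a ha => by
    rw [mem_typeA'_of_P ⟨W₁, U, W₂, hP⟩] at ha
    exact ⟨ha.1, ha.2.1⟩
  A₀_eq := typeA0_eq hP

/-- The prime Dade hypothesis (4.6) for a maximal subgroup of type P, with `H = M_F`. -/
theorem primeDadeHypF (hG : IsMinSimpleOddOrder G) {M : Subgroup G} (hM : IsCoatom M)
    {W₁ U W₂ : Subgroup G} (hP : IsTypePWith M W₁ U W₂) :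
    PrimeDadeHyp M ⁅M, M⁆ (fittingHallOf M) (typeA' M) (typeA0' M) (W₁ ⊔ W₂) W₁ W₂
      (supportR M) where
  cyclicTI := TypePHyp.cyclicTIHyp hG.1 hP
  primeTI := TypePHyp.primeTIHyp hG.1 hP
  dade := dadeHyp_typeA0 hG hM
  H_normal := fun x hx h hh => fittingHallOf_conj_mem hx hh
  W₂_le := W₂_le_fittingHallOf hP
  H_le := fittingHallOf_le_derived hG hM
  A_normal := fun x hx a ha => typeA'_conj_mem hx ha
  centralizer_sub := fun h hh h1 k hk k1 hkh => by
    rw [mem_typeA'_of_P ⟨W₁, U, W₂, hP⟩]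
    exact ⟨hk, k1, h, fittingHallOf_le_typeCore hG hM hh, h1, hkh⟩
  A_sub := fun a ha => by
    rw [mem_typeA'_of_P ⟨W₁, U, W₂, hP⟩] at ha
    exact ⟨ha.1, ha.2.1⟩
  A₀_eq := typeA0_eq hP

end minSimple

end Cfsg.Agent.OddOrderCharacters.PF8
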