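import Cfsg.Agent.OddOrderLocal.W.S1380w
import Cfsg.Agent.OddOrderCharacters.PF8.Types

/-!
# Weak type I is the negation of type P
-/

set_option autoImplicit false

open Cfsg

namespace Cfsg.Agent.OddOrderCharacters.PF8

open Cfsg.Agent.OddOrderCharacters.PFDefs

universe u

variable {G : Type u} [Group G] [Finite G]

/-- For a maximal subgroup, weak type I is the negation of type P. -/
theorem typeI'_iff (hG : IsMinSimpleOddOrder G) {M : Subgroup G} (hM : IsCoatom M) :
    IsOfTypeI' M ↔ ¬ IsOfTypeP M := by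
  rw [typeP_iff_kappa hG hM, ← Cfsg.Agent.OddOrderLocal.W.S1380w.result' hG M hM,
    Set.not_nonempty_iff_eq_empty]

theorem type_cases' (hG : IsMinSimpleOddOrder G) {M : Subgroup G} (hM : IsCoatom M) :
    IsOfTypeI' M ∨ IsOfTypeII M ∨ IsOfTypeIII M ∨ IsOfTypeIV M ∨ IsOfTypeV M := by
  rw [typeI'_iff hG hM]
  exact type_cases hG hM

theorem typeI'_or_typeP (hG : IsMinSimpleOddOrder G) {M : Subgroup G} (hM : IsCoatom M) :
    IsOfTypeI' M ∨ IsOfTypeP M := by
  rw [typeI'_iff hG hM]
  exact (em _).symm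

end Cfsg.Agent.OddOrderCharacters.PF8
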