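import Cfsg.Agent.S1352
import Cfsg.Agent.S1364
import Cfsg.Agent.S1366
import Cfsg.Agent.S1367
import Cfsg.Agent.S1368
import Cfsg.Agent.S1369
import Cfsg.Agent.S1381
import Cfsg.Agent.OddOrderLocal.HallPi
import Cfsg.Agent.OddOrderLocal.CyclicSub
import Cfsg.Agent.OddOrderLocal.MinSimpleBasic
import Cfsg.Agent.OddOrderCharacters.PF8.Types

/-!
# Pairs of maximal subgroups of type P: Peterfalvi (8.8), B & G Theorem I
-/

set_option autoImplicit false

open Cfsg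

namespace Cfsg.Agent.OddOrderCharacters.PF8

open Cfsg.Agent.OddOrderCharacters.PFDefs
open Cfsg.Agent.OddOrderCharacters.TypeEquivariance
open Cfsg.Agent.OddOrderCharacters
open Cfsg.Agent.OddOrderLocal

universe u

variable {G : Type u} [Group G] [Finite G]

/-- Orders of `W₁` for two sets of data of conjugate groups. -/
theorem card_W₁_eq_of_conj (hG : IsMinSimpleOddOrder G) {M T W₁ U W₂ A V B : Subgroup G}
    (hM : IsCoatom M) (h : IsTypePWith M W₁ U W₂) (hT : IsCoatom T) (hT' : IsTypePWith T A V B)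
    {g : G} (hg : T = M.map (MulAut.conj g).toMonoidHom) : Nat.card A = Nat.card W₁ := by
  have h1 := isTypePWith_map_of (MulAut.conj g) M W₁ U W₂ h
  rw [← hg] at h1
  have h2 := HallPi.card_eq_of_isPiHallOf (W₁_isPiHallOf hG hT hT') (W₁_isPiHallOf hG hT h1)
  rw [h2, card_map_equiv]

/-- The two members of a pair are not conjugate. -/
theorem pair_not_conj (hG : IsMinSimpleOddOrder G) {S T W₁ W₂ U V : Subgroup G} (hS : IsCoatom S)
    (hT : IsCoatom T) (hSP : IsTypePWith S W₁ U W₂) (hTP : IsTypePWith T W₂ V W₁) (g : G) :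
    T ≠ S.map (MulAut.conj g).toMonoidHom := by
  intro hg
  have h1 := card_W₁_eq_of_conj hG hS hSP hT hTP hg
  have h2 := coprime_W₁_W₂ hSP
  rw [h1, Nat.coprime_self] at h2
  exact hSP.W₁_ne (Subgroup.card_eq_one.1 h2)

/-- The facts of S1366–S1369 for type P data of `M` and of its partner `T`. -/
theorem pair_core (hG : IsMinSimpleOddOrder G) {M : Subgroup G} (hM : IsCoatom M)
    {W₁ U W₂ : Subgroup G} (h : IsTypePWith M W₁ U W₂) {T : Subgroup G} (hT : IsCoatom T)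
    (h1 : W₁ = sigmaCore T ⊓ Subgroup.centralizer (W₂ : Set G))
    (h2 : IsPiHallOf (kappa T) W₂ T) :
    M ⊓ T = W₁ ⊔ W₂ ∧ (IsOfTypeII M ∨ IsOfTypeII T) ∧
      (∀ N : Subgroup G, IsCoatom N → ¬ IsOfTypeP N ∨
        ∃ g : G, N = M.map (MulAut.conj g).toMonoidHom ∨ N = T.map (MulAut.conj g).toMonoidHom) := by
  obtain ⟨⟨U', hKU, -, -⟩, hW₂⟩ := exists_sigmaDecomposition hG hM h
  have hK1 := h.W₁_ne
  have h1' := h1
  have h2' := h2
  rw [hW₂] at h1' h2'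
  obtain ⟨ha, -⟩ := S1368.result hG M hM W₁ U' hKU hK1 T hT h1' h2'
  obtain ⟨hb, hc⟩ := S1369.result hG M hM W₁ U' hKU hK1 T hT h1' h2'
  refine ⟨by rw [ha, ← hW₂], ?_, ?_⟩
  · rcases hb with hb | hb
    · exact Or.inl ((S1381.result hG M hM W₁ U' hKU).2 ⟨hK1, hb⟩)
    · right
      rw [← hW₂] at hb
      obtain ⟨⟨V, hV⟩, -⟩ := S1352.result hG T hT W₂ (W₂_cyclic h) h2
      exact (S1381.result hG T hT W₂ V hV).2 ⟨W₂_ne h, hb V hV⟩
  · intro N hN
    by_cases hk : (kappa N).Nonempty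
    · exact Or.inr (hc N hN hk)
    · left
      rwa [typeP_iff_kappa hG hN]

/-- The partner of a maximal subgroup of type P. -/
theorem exists_partner (hG : IsMinSimpleOddOrder G) {M : Subgroup G} (hM : IsCoatom M)
    {W₁ U W₂ : Subgroup G} (h : IsTypePWith M W₁ U W₂) :
    ∃ T V : Subgroup G, IsCoatom T ∧ IsTypePWith T W₂ V W₁ ∧ M ⊓ T = W₁ ⊔ W₂ ∧
      (IsOfTypeII M ∨ IsOfTypeII T) ∧
      (∀ g : G, T ≠ M.map (MulAut.conj g).toMonoidHom) ∧
      ∀ N : Subgroup G, IsCoatom N → ¬ IsOfTypeP N ∨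
        ∃ g : G, N = M.map (MulAut.conj g).toMonoidHom ∨ N = T.map (MulAut.conj g).toMonoidHom := by
  obtain ⟨⟨U', hKU, -, -⟩, hW₂⟩ := exists_sigmaDecomposition hG hM h
  obtain ⟨T, ⟨hT, hT1, hT2⟩, -⟩ := S1366.result hG M hM W₁ U' hKU h.W₁_ne
  have hW₂' : (W₂ : Set G) = ((sigmaCore M : Set G) ⊓ (Subgroup.centralizer (W₁ : Set G) : Set G)) :=
    congrArg (fun X : Subgroup G => (X : Set G)) hW₂
  rw [← hW₂'] at hT1
  rw [← hW₂] at hT2
  have hkT : (kappa T).Nonempty := by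
    have h1 : Nat.card W₂ ≠ 1 := fun h0 => W₂_ne h ((Subgroup.card_eq_one).mp h0)
    obtain ⟨p, hp, hpd⟩ := Nat.exists_prime_and_dvd h1
    exact ⟨p, hT2.2.1 p hp hpd⟩
  obtain ⟨A, V, B, hT'⟩ := (typeP_iff_kappa hG hT).2 hkT
  have hA := W₁_isPiHallOf hG hT hT'
  have hcard : Nat.card A = Nat.card W₂ := HallPi.card_eq_of_isPiHallOf hA hT2
  obtain ⟨t, ht, htA⟩ := exists_conj_eq_of_card_eq (isSolvable_of_coatom hG hT) hA.1 hT2.1 hcard
    hT'.W₁_hall
  have h3 := isTypePWith_map_of (MulAut.conj t) T A V B hT'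
  rw [map_conj_eq_self ht, ← htA] at h3
  have h4 := W₂_eq hG hT h3
  rw [← hT1] at h4
  rw [h4] at h3
  obtain ⟨h5, h6, h7⟩ := pair_core hG hM h hT hT1 hT2
  exact ⟨T, _, hT, h3, h5, h6, pair_not_conj hG hM hT h h3, h7⟩

/-- In the situation of `S1543`–`S1549`: the two groups are not conjugate, etc. -/
theorem pair_facts' (hG : IsMinSimpleOddOrder G) {S T W₁ W₂ U V : Subgroup G} (hS : IsCoatom S)
    (hT : IsCoatom T) (hSP : IsTypePWith S W₁ U W₂) (hTP : IsTypePWith T W₂ V W₁) :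
    S ⊓ T = W₁ ⊔ W₂ ∧
    (∀ g : G, T ≠ S.map (MulAut.conj g).toMonoidHom) ∧ (IsOfTypeII S ∨ IsOfTypeII T) ∧
      (∀ N : Subgroup G, IsCoatom N → ¬ IsOfTypeP N ∨
        ∃ g : G, N = S.map (MulAut.conj g).toMonoidHom ∨ N = T.map (MulAut.conj g).toMonoidHom) := by
  obtain ⟨h1, h2, h3⟩ := pair_core hG hS hSP hT (W₂_eq hG hT hTP) (W₁_isPiHallOf hG hT hTP)
  exact ⟨h1, pair_not_conj hG hS hT hSP hTP, h2, h3⟩

theorem pair_facts (hG : IsMinSimpleOddOrder G) {S T W₁ W₂ U V : Subgroup G} (hS : IsCoatom S)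
    (hT : IsCoatom T) (hSP : IsTypePWith S W₁ U W₂) (hTP : IsTypePWith T W₂ V W₁)
    (_hST : S ⊓ T = W₁ ⊔ W₂) :
    (∀ g : G, T ≠ S.map (MulAut.conj g).toMonoidHom) ∧ (IsOfTypeII S ∨ IsOfTypeII T) ∧
      (∀ N : Subgroup G, IsCoatom N → ¬ IsOfTypeP N ∨
        ∃ g : G, N = S.map (MulAut.conj g).toMonoidHom ∨ N = T.map (MulAut.conj g).toMonoidHom) :=
  (pair_facts' hG hS hT hSP hTP).2

/-- The partner is unique. -/
theorem partner_unique (hG : IsMinSimpleOddOrder G) {S T T' W₁ W₂ U V V' : Subgroup G}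
    (hS : IsCoatom S) (hT : IsCoatom T) (hT' : IsCoatom T') (hSP : IsTypePWith S W₁ U W₂)
    (hTP : IsTypePWith T W₂ V W₁) (hTP' : IsTypePWith T' W₂ V' W₁) : T' = T := by
  obtain ⟨⟨U', hKU, -, -⟩, hW₂⟩ := exists_sigmaDecomposition hG hS hSP
  have hu := S1366.result hG S hS W₁ U' hKU hSP.W₁_ne
  have hW₂' : (W₂ : Set G) = ((sigmaCore S : Set G) ⊓ (Subgroup.centralizer (W₁ : Set G) : Set G)) :=
    congrArg (fun X : Subgroup G => (X : Set G)) hW₂
  rw [← hW₂', ← hW₂] at hu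
  exact hu.unique ⟨hT', W₂_eq hG hT' hTP', W₁_isPiHallOf hG hT' hTP'⟩
    ⟨hT, W₂_eq hG hT hTP, W₁_isPiHallOf hG hT hTP⟩

/-- `M` is the only maximal subgroup over `C_G(X)`, `X ≤ W₂` of prime order. -/
theorem centralizer_W₂_unique (hG : IsMinSimpleOddOrder G) {M : Subgroup G}
    (hM : IsCoatom M) {W₁ U W₂ : Subgroup G} (h : IsTypePWith M W₁ U W₂) {X : Subgroup G}
    (hX : X ≤ W₂) (hX1 : (Nat.card X).Prime) :
    Subgroup.centralizer (X : Set G) ≤ M ∧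
      ∀ L : Subgroup G, IsCoatom L → Subgroup.centralizer (X : Set G) ≤ L → L = M := by
  obtain ⟨⟨U', hKU, -, -⟩, hW₂⟩ := exists_sigmaDecomposition hG hM h
  obtain ⟨T, ⟨hT, hT1, hT2⟩, -⟩ := S1366.result hG M hM W₁ U' hKU h.W₁_ne
  exact (S1367.result hG M hM W₁ U' hKU h.W₁_ne T hT hT1 hT2).1 X (hW₂ ▸ hX) hX1

/-- `C_G(x) ≤ M` for `1 ≠ x ∈ W₂` (apply to the partner `T` for `x ∈ W₁`). -/
theorem centralizer_W₂_le (hG : IsMinSimpleOddOrder G) {M : Subgroup G} (hM : IsCoatom M)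
    {W₁ U W₂ : Subgroup G} (h : IsTypePWith M W₁ U W₂) {x : G} (hx : x ∈ W₂) (hx1 : x ≠ 1) :
    Subgroup.centralizer ({x} : Set G) ≤ M := by
  have h1 : orderOf x ≠ 1 := fun h0 => hx1 (orderOf_eq_one_iff.1 h0)
  obtain ⟨p, hp, hpd⟩ := Nat.exists_prime_and_dvd h1
  obtain ⟨k, hk⟩ := hpd
  have hk0 : k ≠ 0 := by
    rintro rfl
    rw [mul_zero] at hk
    exact (orderOf_pos x).ne' hk
  have ho : orderOf (x ^ k) = p := by
    rw [orderOf_pow, hk, Nat.gcd_eq_right (Dvd.intro_left p rfl)]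
    exact Nat.mul_div_cancel _ (Nat.pos_of_ne_zero hk0)
  have hX : Subgroup.zpowers (x ^ k) ≤ W₂ := by
    rw [Subgroup.zpowers_le]
    exact W₂.pow_mem hx k
  refine le_trans ?_ (centralizer_W₂_unique hG hM h hX (by rw [Nat.card_zpowers, ho]; exact hp)).1
  intro c hc
  rw [Subgroup.mem_centralizer_iff] at hc ⊢
  have hcx : Commute c x := (hc x rfl).symm
  rintro _ ⟨m, rfl⟩
  exact ((hcx.pow_right k).zpow_right m).symm

/-- `C_G(X) ≤ M` and `N_G(X) ≤ M` for `1 ≠ X ≤ W₂`. -/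
theorem centralizer_subgroup_W₂_le (hG : IsMinSimpleOddOrder G) {M : Subgroup G}
    (hM : IsCoatom M) {W₁ U W₂ : Subgroup G} (h : IsTypePWith M W₁ U W₂) {X : Subgroup G}
    (hX : X ≤ W₂) (hX1 : X ≠ ⊥) :
    Subgroup.centralizer (X : Set G) ≤ M ∧ Subgroup.normalizer (X : Set G) ≤ M := by
  have hcyc := W₂_cyclic h
  -- a subgroup of prime order
  have h1 : Nat.card X ≠ 1 := fun h0 => hX1 ((Subgroup.card_eq_one).mp h0)
  obtain ⟨p, hp, hpd⟩ := Nat.exists_prime_and_dvd h1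
  have := Fact.mk hp
  obtain ⟨⟨y, hyX⟩, hy⟩ := exists_prime_orderOf_dvd_card' p hpd
  rw [Subgroup.orderOf_mk] at hy
  set P : Subgroup G := Subgroup.zpowers y with hP
  have hPX : P ≤ X := by rw [hP, Subgroup.zpowers_le]; exact hyX
  have hPc : Nat.card P = p := by rw [hP, Nat.card_zpowers, hy]
  obtain ⟨h2, h3⟩ := centralizer_W₂_unique hG hM h (hPX.trans hX) (by rw [hPc]; exact hp)
  refine ⟨(Subgroup.centralizer_le hPX).trans h2, ?_⟩
  intro g hg
  have hgX : X.map (MulAut.conj g).toMonoidHom = X :=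
    (MinSimpleBasic.mem_normalizer_iff_map_conj).1 hg
  have hXc : IsCyclic X := isCyclic_of_le hX hcyc
  have hgP : P.map (MulAut.conj g).toMonoidHom = P :=
    CyclicSub.map_conj_eq_of_le_cyclic hXc hPX hgX
  have h4 : Subgroup.centralizer (P : Set G) ≤ M.map (MulAut.conj g).toMonoidHom := by
    rw [← hgP, centralizer_map, map_le_map_iff']
    exact h2
  have h5 := h3 _ ((isCoatom_map (MulAut.conj g) M).2 hM) h4
  rw [← MinSimpleBasic.normalizer_coatom hG hM]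
  exact (MinSimpleBasic.mem_normalizer_iff_map_conj).2 h5

end Cfsg.Agent.OddOrderCharacters.PF8
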