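import Mathlib
import Cfsg.Prelude.Def_OddOrderLocal
import Cfsg.Prelude.Def_OddOrderChar
import Cfsg.Agent.OddOrderCharacters.PFDefs
import Cfsg.Agent.OddOrderLocal.MinSimpleBasic
import Cfsg.Agent.OddOrderLocal.Equivariance
import Cfsg.Agent.OddOrderLocal.TypeCore
import Cfsg.Agent.OddOrderLocal.TypePData
import Cfsg.Agent.OddOrderLocal.TypeFData
import Cfsg.Agent.S1350
import Cfsg.Agent.S1351
import Cfsg.Agent.S1352
import Cfsg.Agent.S1355
import Cfsg.Agent.S1362
import Cfsg.Agent.S1365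
import Cfsg.Agent.S1366
import Cfsg.Agent.S1369
import Cfsg.Agent.S1377
import Cfsg.Agent.S1378
import Cfsg.Agent.S1379
import Cfsg.Agent.S1381
import Cfsg.Agent.S1382
import Cfsg.Agent.S1383
import Cfsg.Agent.S1434

/-!
# Peterfalvi (8.17): the partition of the nonidentity elements

Part of the interface between the local analysis and the character theory.
-/

set_option autoImplicit false

open Cfsg

namespace Cfsg.Agent.OddOrderCharacters.PF8

open Cfsg.Agent.OddOrderCharacters.PFDefs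
open Cfsg.Agent.OddOrderLocal

universe u

variable {G : Type u} [Group G] [Finite G]

namespace Partition

/-! ### Auxiliary facts -/

/-- A maximal subgroup with `K ≠ 1` is of type P. -/
theorem isOfTypeP_of_ne_bot (hG : IsMinSimpleOddOrder G) {M K U : Subgroup G} (hM : IsCoatom M)
    (hKU : IsSigmaDecomposition M K U) (hK : K ≠ ⊥) : IsOfTypeP M := by
  by_cases hU : U = ⊥
  · by_cases hF : fittingHallOf M = sigmaCore M
    · exact TypeFData.isOfTypeP_of_isOfTypeV ((S1383.result hG M hM K U hKU).mpr ⟨hK, hU, hF⟩)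
    · rcases (S1382.result hG M hM K U hKU).mpr ⟨hK, hU, hF⟩ with h | h
      · exact TypeFData.isOfTypeP_of_isOfTypeIII h
      · exact TypeFData.isOfTypeP_of_isOfTypeIV h
  · exact TypeFData.isOfTypeP_of_isOfTypeII ((S1381.result hG M hM K U hKU).mpr ⟨hK, hU⟩)

omit [Finite G] in
/-- `K ≠ 1` when `κ(M)` is not empty. -/
theorem ne_bot_of_kappa {M K : Subgroup G} (hK : IsPiHallOf (kappa M) K M)
    (hκ : (kappa M).Nonempty) : K ≠ ⊥ := by
  obtain ⟨p, hp⟩ := hκ
  rintro rfl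
  refine hK.2.2 p hp.1 hp ?_
  rw [Subgroup.relIndex_bot_left]
  exact hp.2.1

theorem isOfTypeP_of_kappa (hG : IsMinSimpleOddOrder G) {M : Subgroup G} (hM : IsCoatom M)
    (hκ : (kappa M).Nonempty) : IsOfTypeP M := by
  obtain ⟨K, U, hKU⟩ := TypeCore.exists_sigmaDecomposition hG M hM
  exact isOfTypeP_of_ne_bot hG hM hKU (ne_bot_of_kappa hKU.hall hκ)

theorem kappa_of_isOfTypeP (hG : IsMinSimpleOddOrder G) {M : Subgroup G} (hM : IsCoatom M)
    (h : IsOfTypeP M) : (kappa M).Nonempty := by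
  obtain ⟨W₁, U, W₂, h⟩ := h
  have h1 : Nat.card W₁ ≠ 1 := fun h0 => h.W₁_ne ((Subgroup.card_eq_one).mp h0)
  obtain ⟨p, hp, hpd⟩ := Nat.exists_prime_and_dvd h1
  exact ⟨p, TypePData.kappa_of_isTypePWith hG M hM h p hp hpd⟩

theorem kappa_eq_empty_of_typeI' (hG : IsMinSimpleOddOrder G) {M : Subgroup G} (hM : IsCoatom M)
    (h : IsOfTypeI' M) : kappa M = ∅ := by
  by_contra hne
  exact TypeFData.not_isOfTypeP_of_isOfTypeF h.1
    (isOfTypeP_of_kappa hG hM (Set.nonempty_iff_ne_empty.mpr hne))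

/-- With type P data `(W₁, U, W₂)`: `W₂ = C_{M_σ}(W₁)`. -/
theorem W₂_eq (hG : IsMinSimpleOddOrder G) {M W₁ U W₂ : Subgroup G} (hM : IsCoatom M)
    (h : IsTypePWith M W₁ U W₂) : W₂ = sigmaCore M ⊓ Subgroup.centralizer (W₁ : Set G) := by
  have h55 := S1355.result hG M hM
  apply le_antisymm
  · intro y hy
    refine ⟨h55.2.1 (h.W₂_le hy).1, ?_⟩
    refine Subgroup.mem_centralizer_iff.mpr ?_
    intro x hx
    by_cases hx1 : x = 1
    · rw [hx1, one_mul, mul_one]
    · have hy2 : y ∈ ⁅M, M⁆ ⊓ Subgroup.centralizer ({x} : Set G) := by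
        rw [h.W₂_centralizer x hx hx1]; exact hy
      exact Subgroup.mem_centralizer_iff.mp hy2.2 x rfl
  · intro y hy
    obtain ⟨x, hx, hx1⟩ := (Subgroup.bot_or_exists_ne_one W₁).resolve_left h.W₁_ne
    rw [← h.W₂_centralizer x hx hx1]
    refine ⟨h55.2.2.1 hy.1, ?_⟩
    refine Subgroup.mem_centralizer_iff.mpr ?_
    intro z hz
    rw [Set.mem_singleton_iff] at hz
    rw [hz]
    exact Subgroup.mem_centralizer_iff.mp hy.2 x hx

/-- With type P data `(W₁, U, W₂)`: `W₁` is a Hall `κ(M)`-subgroup of `M`. -/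
theorem W₁_hall (hG : IsMinSimpleOddOrder G) {M W₁ U W₂ : Subgroup G} (hM : IsCoatom M)
    (h : IsTypePWith M W₁ U W₂) : IsPiHallOf (kappa M) W₁ M := by
  obtain ⟨K, U₀, hKU⟩ := TypeCore.exists_sigmaDecomposition hG M hM
  have hcard := TypePData.card_kappa_eq_of_isTypePWith hG M hM h K U₀ hKU
  have hW₁M : W₁ ≤ M := h.W₁_compl.2.1
  refine ⟨hW₁M, TypePData.kappa_of_isTypePWith hG M hM h, ?_⟩
  intro p hp hκ hd
  apply hKU.hall.2.2 p hp hκ
  have h1 : Nat.card W₁ * W₁.relIndex M = Nat.card M := by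
    have := Subgroup.relIndex_mul_relIndex (⊥ : Subgroup G) W₁ M bot_le hW₁M
    simpa using this
  have h2 : Nat.card K * K.relIndex M = Nat.card M := by
    have := Subgroup.relIndex_mul_relIndex (⊥ : Subgroup G) K M bot_le hKU.hall.1
    simpa using this
  rw [← h1, hcard] at h2
  rwa [Nat.eq_of_mul_eq_mul_left Nat.card_pos h2]

theorem exists_decomposition (hG : IsMinSimpleOddOrder G) {M W₁ U W₂ : Subgroup G}
    (hM : IsCoatom M) (h : IsTypePWith M W₁ U W₂) :
    ∃ U' : Subgroup G, IsSigmaDecomposition M W₁ U' :=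
  (S1352.result hG M hM W₁ h.W₁_cyclic (W₁_hall hG hM h)).1

theorem typeA1_eq (hG : IsMinSimpleOddOrder G) {M : Subgroup G} (hM : IsCoatom M) :
    typeA1 M = (sigmaCore M : Set G) \ {1} := by
  unfold typeA1
  rw [TypeCore.typeCore_eq_sigmaCore hG M hM]

end Partition

open Cfsg.Agent.OddOrderCharacters.PF8.Partition

/-- The groups `M_s` of non-conjugate maximal subgroups have coprime orders. -/
theorem coprime_typeCore (hG : IsMinSimpleOddOrder G) {M N : Subgroup G} (hM : IsCoatom M)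
    (hN : IsCoatom N) (hnc : ∀ g : G, N ≠ M.map (MulAut.conj g).toMonoidHom) :
    (Nat.card (typeCore M)).Coprime (Nat.card (typeCore N)) := by
  rw [TypeCore.typeCore_eq_sigmaCore hG M hM, TypeCore.typeCore_eq_sigmaCore hG N hN]
  rw [Nat.coprime_iff_gcd_eq_one]
  by_contra hne
  obtain ⟨p, hp, hpd⟩ := Nat.exists_prime_and_dvd hne
  have h1 := (S1350.result hG M hM).1.2.1 p hp (hpd.trans (Nat.gcd_dvd_left _ _))
  have h2 := (S1350.result hG N hN).1.2.1 p hp (hpd.trans (Nat.gcd_dvd_right _ _))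
  obtain ⟨g, hg⟩ := (S1378.result hG).2 M N hM hN ⟨p, h1, h2⟩
  exact hnc g hg

/-- (8.17)(a) -/
theorem exists_dvd_card_typeCore (hG : IsMinSimpleOddOrder G) {p : ℕ} (hp : p.Prime)
    (hpG : p ∣ Nat.card G) : ∃ M : Subgroup G, IsCoatom M ∧ p ∣ Nat.card (typeCore M) := by
  obtain ⟨M, hM, hpM⟩ := (S1378.result hG).1 p hp hpG
  refine ⟨M, hM, ?_⟩
  rw [TypeCore.typeCore_eq_sigmaCore hG M hM]
  have hS := (S1350.result hG M hM).1
  have h1 := hS.2.2 p hp hpM
  have h2 : Nat.card (sigmaCore M) * (sigmaCore M).relIndex M = Nat.card M := by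
    have := Subgroup.relIndex_mul_relIndex (⊥ : Subgroup G) (sigmaCore M) M bot_le hS.1
    simpa using this
  have h3 := hpM.2.1
  rw [← h2] at h3
  exact (hp.dvd_mul.mp h3).resolve_right h1

omit [Finite G] in
theorem dadeSupport_eq_tildeOf (M : Subgroup G) (A : Set G) :
    dadeSupport A (supportR M) = tildeOf M A := by
  ext g
  constructor
  · rintro ⟨a, ha, u, hu, x, hx⟩
    refine ⟨a, ha, u, hu, x⁻¹, ?_⟩
    rw [← hx]; group
  · rintro ⟨a, ha, u, hu, x, hx⟩
    refine ⟨a, ha, u, hu, x⁻¹, ?_⟩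
    rw [hx]; group

/-- (8.17)(b) -/
theorem ncard_tildeOf_typeA1 (hG : IsMinSimpleOddOrder G) {M : Subgroup G} (hM : IsCoatom M) :
    Set.ncard (tildeOf M (typeA1 M)) = (Nat.card (typeCore M) - 1) * M.index := by
  rw [typeA1_eq hG hM, TypeCore.typeCore_eq_sigmaCore hG M hM]
  exact S1377.result hG M hM

/-- (8.17): disjointness. -/
theorem disjoint_tildeOf_typeA1 (hG : IsMinSimpleOddOrder G) {M N : Subgroup G} (hM : IsCoatom M)
    (hN : IsCoatom N) (hnc : ∀ g : G, N ≠ M.map (MulAut.conj g).toMonoidHom) :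
    tildeOf M (typeA1 M) ∩ tildeOf N (typeA1 N) = ∅ := by
  rw [typeA1_eq hG hM, typeA1_eq hG hN]
  exact (S1379.result hG).1 M N hM hN hnc

/-- (8.17)(c) -/
theorem cover_of_all_typeI (hG : IsMinSimpleOddOrder G)
    (hI : ∀ M : Subgroup G, IsCoatom M → IsOfTypeI' M) (g : G) (hg : g ≠ 1) :
    ∃ M : Subgroup G, IsCoatom M ∧ g ∈ tildeOf M (typeA1 M) := by
  obtain ⟨M, hM, hgM⟩ := (S1379.result hG).2.1
    (fun M hM => kappa_eq_empty_of_typeI' hG hM (hI M hM)) g hg
  exact ⟨M, hM, by rw [typeA1_eq hG hM]; exact hgM⟩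

/-- (8.17)(d) -/
theorem cover_of_typeP (hG : IsMinSimpleOddOrder G) {M : Subgroup G} (hM : IsCoatom M)
    {W₁ U W₂ : Subgroup G} (h : IsTypePWith M W₁ U W₂) :
    (∀ g : G, g ≠ 1 → (∃ N : Subgroup G, IsCoatom N ∧ g ∈ tildeOf N (typeA1 N)) ∨
      g ∈ classSupport (cycTIset (W₁ ⊔ W₂) W₁ W₂) ⊤) ∧
    ∀ N : Subgroup G, IsCoatom N →
      Disjoint (tildeOf N (typeA1 N)) (classSupport (cycTIset (W₁ ⊔ W₂) W₁ W₂) ⊤) := by
  obtain ⟨U', hU'⟩ := exists_decomposition hG hM h
  have h1 := (S1379.result hG).2.2 M W₁ U' hM hU' h.W₁_ne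
  rw [← W₂_eq hG hM h] at h1
  constructor
  · intro g hg
    rcases h1.1 g hg with ⟨N, hN, hgN⟩ | ⟨y, z, hz, hgz⟩
    · exact Or.inl ⟨N, hN, by rw [typeA1_eq hG hN]; exact hgN⟩
    · exact Or.inr ⟨y, Subgroup.mem_top y, z, hz, hgz⟩
  · intro N hN
    rw [Set.disjoint_left]
    rintro g hgN ⟨y, -, z, hz, hgz⟩
    rw [typeA1_eq hG hN] at hgN
    exact h1.2 N hN y z hz (hgz ▸ hgN)

namespace Partition

/-- The elements of `A(M)` lie in `A(M)` of the local analysis. -/
theorem mem_sigmaA_of_mem_typeA' (hG : IsMinSimpleOddOrder G) {M K U : Subgroup G}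
    (hM : IsCoatom M) (hKU : IsSigmaDecomposition M K U) {x : G} (hx : x ∈ typeA' M) :
    x ∈ sigmaA M U := by
  have h55 := S1355.result hG M hM
  by_cases hP : IsOfTypeP M
  · have hK : K ≠ ⊥ := ne_bot_of_kappa hKU.hall (kappa_of_isOfTypeP hG hM hP)
    rw [typeA'_of_typeP hP] at hx
    obtain ⟨hx1, -, y, hy, hy1, hxy⟩ := hx
    rw [TypeCore.typeCore_eq_sigmaCore hG M hM] at hy
    refine ⟨⟨Subgroup.commutator_le_self M hx1, y, hy, hy1, hxy⟩, ?_⟩
    rw [SetLike.mem_coe, ← (S1365.result hG M hM K U hKU hK).1]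
    exact hx1
  · have hK : K = ⊥ := by
      by_contra hK
      exact hP (isOfTypeP_of_ne_bot hG hM hKU hK)
    rw [typeA'_of_not_typeP hP] at hx
    obtain ⟨hx1, -, y, hy, hy1, hxy⟩ := hx
    refine ⟨⟨hx1, y, h55.2.1 hy, hy1, hxy⟩, ?_⟩
    obtain ⟨u, hu, s, hs, hus⟩ := hKU.compl.2.2.2 x hx1
    rw [hK, bot_sup_eq] at hs
    rw [SetLike.mem_coe, hus]
    exact Subgroup.mul_mem_sup hu hs

/-- For `x ∈ A(M) - A₁(M)` one has `C_G(x) ≤ M`. -/
theorem centralizer_le_of_mem_diff (hG : IsMinSimpleOddOrder G) {M : Subgroup G}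
    (hM : IsCoatom M) {x : G} (hx : x ∈ typeA' M) (hx1 : x ∉ typeA1 M) :
    Subgroup.centralizer ({x} : Set G) ≤ M := by
  obtain ⟨K, U, hKU⟩ := TypeCore.exists_sigmaDecomposition hG M hM
  have hxne : x ≠ 1 := by
    by_cases hP : IsOfTypeP M
    · rw [typeA'_of_typeP hP] at hx; exact hx.2.1
    · rw [typeA'_of_not_typeP hP] at hx; exact hx.2.1
  have hTI := S1362.result hG M hM K U hKU
  have hUn := (S1352.result hG M hM K hKU.cyclic hKU.hall).2 U hKU
  set X : Set G := sigmaA M U \ (sigmaCore M : Set G) with hX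
  have hxX : x ∈ X := by
    refine ⟨mem_sigmaA_of_mem_typeA' hG hM hKU hx, ?_⟩
    intro h
    apply hx1
    rw [typeA1_eq hG hM]
    exact ⟨h, hxne⟩
  have hXM : ∀ y ∈ X, y ∈ M := fun y hy => hy.1.1.1
  have hconj : ∀ m ∈ M, ∀ y ∈ X, m * y * m⁻¹ ∈ X := by
    rintro m hm y ⟨⟨⟨hyM, z, hz, hz1, hyz⟩, hyU⟩, hyS⟩
    refine ⟨⟨⟨M.mul_mem (M.mul_mem hm hyM) (M.inv_mem hm), m * z * m⁻¹,
      TypePData.conj_mem_of_le_normalizer (TypePData.le_normalizer_sigmaCore M) hm hz, ?_, ?_⟩, ?_⟩, ?_⟩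
    · intro h
      apply hz1
      have h2 : z = m⁻¹ * (m * z * m⁻¹) * m := by group
      rw [h2, h]; group
    · calc m * y * m⁻¹ * (m * z * m⁻¹) = m * (y * z) * m⁻¹ := by group
        _ = m * (z * y) * m⁻¹ := by rw [hyz]
        _ = m * z * m⁻¹ * (m * y * m⁻¹) := by group
    · exact TypePData.conj_mem_of_le_normalizer hUn hm hyU
    · intro h
      apply hyS
      have h2 := TypePData.conj_mem_of_le_normalizer (TypePData.le_normalizer_sigmaCore M)
        (M.inv_mem hm) h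
      have h3 : m⁻¹ * (m * y * m⁻¹) * m⁻¹⁻¹ = y := by group
      rw [h3] at h2
      exact h2
  have hMN : M ≤ Subgroup.normalizer X := by
    rw [Subgroup.le_set_normalizer_iff]
    exact hconj
  have hN : Subgroup.normalizer X = M := by
    by_contra hne
    have htop : Subgroup.normalizer X = ⊤ := hM.2 _ (lt_of_le_of_ne hMN (Ne.symm hne))
    have h1 : (Subgroup.closure X).Normal := by
      rw [← Subgroup.normalizer_eq_top_iff, eq_top_iff, ← htop]
      exact Subgroup.normalizer_le_normalizer_closure X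
    have h2 : Subgroup.closure X ≤ M := (Subgroup.closure_le M).mpr hXM
    rcases MinSimpleBasic.eq_bot_or_eq_top_of_normal hG (Subgroup.closure X) with h | h
    · have h3 : x ∈ Subgroup.closure X := Subgroup.subset_closure hxX
      rw [h, Subgroup.mem_bot] at h3
      exact hxne h3
    · rw [h] at h2
      exact hM.1 (top_le_iff.mp h2)
  intro g hg
  rw [← hN]
  by_contra hgN
  apply hxne
  refine hTI g hgN x hxX ?_
  have h1 : x * g = g * x := Subgroup.mem_centralizer_iff.mp hg x rfl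
  have h2 : g * x * g⁻¹ = x := by rw [← h1, mul_inv_cancel_right]
  rw [h2]; exact hxX

/-- For `x ∈ A(M) - A₁(M)` one has `R(x) = 1`. -/
theorem supportR_eq_bot_of_mem_diff (hG : IsMinSimpleOddOrder G) {M : Subgroup G}
    (hM : IsCoatom M) {x : G} (hx : x ∈ typeA' M) (hx1 : x ∉ typeA1 M) : supportR M x = ⊥ := by
  have h := centralizer_le_of_mem_diff hG hM hx hx1
  unfold supportR
  rw [dif_neg]
  rintro ⟨h1, -⟩
  exact h1 h

end Partition

/-- The conjugates of `V = W \ (W₁ ∪ W₂)` do not meet `Ã(N)`, for any maximal subgroup `N`. -/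
theorem disjoint_tildeOf_typeA_cycTI (hG : IsMinSimpleOddOrder G) {M : Subgroup G} (hM : IsCoatom M)
    {W₁ U W₂ : Subgroup G} (h : IsTypePWith M W₁ U W₂) (N : Subgroup G) (hN : IsCoatom N) :
    Disjoint (tildeOf N (typeA' N)) (classSupport (cycTIset (W₁ ⊔ W₂) W₁ W₂) ⊤) := by
  rw [Set.disjoint_left]
  rintro g ⟨a, ha, r, hr, y, hg⟩ ⟨m, -, v, hv, hgv⟩
  by_cases ha1 : a ∈ typeA1 N
  · exact Set.disjoint_left.mp ((cover_of_typeP hG hM h).2 N hN) ⟨a, ha1, r, hr, y, hg⟩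
      ⟨m, Subgroup.mem_top m, v, hv, hgv⟩
  -- now `R(a) = 1` and `a` is conjugate to `v`
  rw [supportR_eq_bot_of_mem_diff hG hN ha ha1, Subgroup.mem_bot] at hr
  subst hr
  rw [mul_one] at hg
  set c : G := m⁻¹ * y with hc
  have hv' : v = c * a * c⁻¹ := by
    have h1 : m * v * m⁻¹ = y * a * y⁻¹ := by rw [← hgv, hg]
    have h2 : v = m⁻¹ * (m * v * m⁻¹) * m := by group
    rw [h2, h1, hc]; group
  obtain ⟨hvW, hv12⟩ := hv
  have hvW₁ : v ∉ W₁ := fun h' => hv12 (Or.inl h')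
  have hvW₂ : v ∉ W₂ := fun h' => hv12 (Or.inr h')
  have hW := h.selfNormalizing
  have hCv : Subgroup.centralizer ({v} : Set G) ≤ W₁ ⊔ W₂ := by
    have h1 := hW.2.2.2.2.2 {v} (by
      intro z hz
      rw [Set.mem_singleton_iff] at hz
      rw [hz]
      exact ⟨hvW, hv12⟩) (Set.singleton_nonempty v)
    rw [← h1]
    intro z hz
    rw [Subgroup.mem_set_normalizer_iff]
    intro t
    have h2 : v * z = z * v := Subgroup.mem_centralizer_iff.mp hz v rfl
    have h3 : z * v * z⁻¹ = v := by rw [← h2, mul_inv_cancel_right]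
    constructor
    · intro ht
      rw [Set.mem_singleton_iff] at ht ⊢
      rw [ht, h3]
    · intro ht
      rw [Set.mem_singleton_iff] at ht ⊢
      exact mul_left_cancel (mul_right_cancel (ht.trans h3.symm))
  -- the local analysis
  have hW₂ := W₂_eq hG hM h
  have hhall := W₁_hall hG hM h
  obtain ⟨U', hU'⟩ := exists_decomposition hG hM h
  obtain ⟨T, ⟨hT, hT1', hT2⟩, -⟩ := S1366.result hG M hM W₁ U' hU' h.W₁_ne
  have h69 := S1369.result hG M hM W₁ U' hU' h.W₁_ne T hT hT1' hT2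
  have h34 := S1434.result hG M hM W₁ U' hU' h.W₁_ne T hT hT1' hT2
  have hT1 : W₁ = sigmaCore T ⊓ Subgroup.centralizer (W₂ : Set G) := by
    rw [hW₂]; exact hT1'
  rw [← hW₂] at hT2 h34
  have hW₂ne : W₂ ≠ ⊥ := hW.2.1
  have hW₂cyc : IsCyclic W₂ := by
    have := hW.2.2.2.2.1
    exact isCyclic_of_injective (Subgroup.inclusion (le_sup_right : W₂ ≤ W₁ ⊔ W₂))
      (Subgroup.inclusion_injective _)
  obtain ⟨UT, hUT⟩ := (S1352.result hG T hT W₂ hW₂cyc hT2).1
  have hKst : W₂ = sigmaCore M ⊓ Subgroup.centralizer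
      ((sigmaCore T ⊓ Subgroup.centralizer (W₂ : Set G) : Subgroup G) : Set G) := by
    rw [← hT1]; exact hW₂
  have h34T := S1434.result hG T hT W₂ UT hUT hW₂ne M hM hKst
    (by rw [← hT1]; exact hhall)
  rw [← hT1] at h34T
  have hvmem : ∃ w₁ ∈ W₁, ∃ w₂ ∈ W₂, v = w₁ * w₂ := by
    have hWN : W₁ ≤ Subgroup.normalizer (W₂ : Set G) := by
      rw [Subgroup.le_normalizer_iff]
      intro k hk z hz
      rw [hW.2.2.2.1 k hk z hz, mul_inv_cancel_right]; exact hz
    exact TypePData.mem_sup_of_le_normalizer hWN hvW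
  obtain ⟨w₁, hw₁, w₂, hw₂, hvw⟩ := hvmem
  by_cases hκ : (kappa N).Nonempty
  · -- `N` is conjugate to `M` or to `T`
    have hP : IsOfTypeP N := isOfTypeP_of_kappa hG hN hκ
    rw [typeA'_of_typeP hP] at ha
    have haN : a ∈ N := Subgroup.commutator_le_self N ha.1
    obtain ⟨g', hg'⟩ := h69.2 N hN hκ
    rcases hg' with hg' | hg'
    · have hvM : v ∈ M.map (MulAut.conj (c * g')).toMonoidHom := by
        rw [MinSimpleBasic.map_conj_mul, ← hg', hv']
        exact MinSimpleBasic.conj_mem_map_conj haN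
      have hcg : c * g' ∈ M := by
        by_contra hcg
        exact h34.2.2.2.1 (c * g') hcg v ⟨hvW, hv12⟩ hvM
      have hvM' : v ∈ ⁅M, M⁆ := by
        have h1 : v ∈ (⁅N, N⁆ : Subgroup G).map (MulAut.conj c).toMonoidHom := by
          rw [hv']; exact MinSimpleBasic.conj_mem_map_conj ha.1
        rw [Subgroup.map_commutator, hg', ← MinSimpleBasic.map_conj_mul,
          MinSimpleBasic.map_conj_of_mem hcg] at h1
        exact h1
      have hw₁M' : w₁ ∈ ⁅M, M⁆ ⊓ W₁ := by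
        refine ⟨?_, hw₁⟩
        have h1 : w₁ = v * w₂⁻¹ := by rw [hvw]; group
        rw [h1]
        exact (⁅M, M⁆ : Subgroup G).mul_mem hvM' ((⁅M, M⁆ : Subgroup G).inv_mem
          ((S1355.result hG M hM).2.2.1 ((hW₂ ▸ hw₂ : w₂ ∈ sigmaCore M ⊓
            Subgroup.centralizer (W₁ : Set G)).1)))
      rw [TypePData.derived_inf_kappa hG M hM W₁ U' hU' h.W₁_ne, Subgroup.mem_bot] at hw₁M'
      apply hvW₂
      rw [hvw, hw₁M', one_mul]; exact hw₂
    · have hvM : v ∈ T.map (MulAut.conj (c * g')).toMonoidHom := by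
        rw [MinSimpleBasic.map_conj_mul, ← hg', hv']
        exact MinSimpleBasic.conj_mem_map_conj haN
      have hcg : c * g' ∈ T := by
        by_contra hcg
        refine h34T.2.2.2.1 (c * g') hcg v ⟨?_, ?_⟩ hvM
        · rw [sup_comm]; exact hvW
        · rintro (h' | h')
          · exact hvW₂ h'
          · exact hvW₁ h'
      have hvM' : v ∈ ⁅T, T⁆ := by
        have h1 : v ∈ (⁅N, N⁆ : Subgroup G).map (MulAut.conj c).toMonoidHom := by
          rw [hv']; exact MinSimpleBasic.conj_mem_map_conj ha.1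
        rw [Subgroup.map_commutator, hg', ← MinSimpleBasic.map_conj_mul,
          MinSimpleBasic.map_conj_of_mem hcg] at h1
        exact h1
      have hw₂T' : w₂ ∈ ⁅T, T⁆ ⊓ W₂ := by
        refine ⟨?_, hw₂⟩
        have h1 : w₂ = w₁⁻¹ * v := by rw [hvw]; group
        rw [h1]
        have h2 : w₁ ∈ sigmaCore T := (hT1 ▸ hw₁ : w₁ ∈ sigmaCore T ⊓
          Subgroup.centralizer (W₂ : Set G)).1
        exact (⁅T, T⁆ : Subgroup G).mul_mem ((⁅T, T⁆ : Subgroup G).inv_mem
          ((S1355.result hG T hT).2.2.1 h2)) hvM'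
      rw [TypePData.derived_inf_kappa hG T hT W₂ UT hUT hW₂ne, Subgroup.mem_bot] at hw₂T'
      apply hvW₁
      rw [hvw, hw₂T', mul_one]; exact hw₁
  · -- `κ(N) = ∅`
    have hNP : ¬ IsOfTypeP N := fun hP => hκ (kappa_of_isOfTypeP hG hN hP)
    rw [typeA'_of_not_typeP hNP] at ha
    obtain ⟨-, -, x, hx, hx1, hax⟩ := ha
    have hxS : x ∈ sigmaCore N := (S1355.result hG N hN).2.1 hx
    set x' : G := c * x * c⁻¹ with hx'
    have hx'1 : x' ≠ 1 := by
      intro h1
      apply hx1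
      have h2 : x = c⁻¹ * x' * c := by rw [hx']; group
      rw [h2, h1]; group
    have hx'W : x' ∈ W₁ ⊔ W₂ := by
      apply hCv
      refine Subgroup.mem_centralizer_iff.mpr ?_
      intro z hz
      rw [Set.mem_singleton_iff] at hz
      rw [hz, hv', hx']
      calc c * a * c⁻¹ * (c * x * c⁻¹) = c * (a * x) * c⁻¹ := by group
        _ = c * (x * a) * c⁻¹ := by rw [hax]
        _ = c * x * c⁻¹ * (c * a * c⁻¹) := by group
    have hne1 : orderOf x' ≠ 1 := fun h1 => hx'1 (orderOf_eq_one_iff.mp h1)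
    obtain ⟨p, hp, hpd⟩ := Nat.exists_prime_and_dvd hne1
    have hpN : p ∈ sigma N := by
      refine (S1350.result hG N hN).1.2.1 p hp (hpd.trans ?_)
      have h1 : orderOf x' = orderOf x := by
        have h2 := MulEquiv.orderOf_eq (MulAut.conj c) x
        rwa [MulAut.conj_apply, ← hx'] at h2
      rw [h1]
      exact Subgroup.orderOf_dvd_natCard _ hxS
    have hpW : p ∣ Nat.card ↥(W₁ ⊔ W₂) := hpd.trans (Subgroup.orderOf_dvd_natCard _ hx'W)
    have hpW' : p ∣ Nat.card W₁ * Nat.card W₂ := by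
      have hsurj : Function.Surjective (fun x : W₁ × W₂ =>
          (⟨(x.1 : G) * x.2, Subgroup.mul_mem_sup x.1.2 x.2.2⟩ : ↥(W₁ ⊔ W₂))) := by
        rintro ⟨z, hz⟩
        have hWN : W₁ ≤ Subgroup.normalizer (W₂ : Set G) := by
          rw [Subgroup.le_normalizer_iff]
          intro k hk z hz
          rw [hW.2.2.2.1 k hk z hz, mul_inv_cancel_right]; exact hz
        obtain ⟨u, hu, w, hw, rfl⟩ := TypePData.mem_sup_of_le_normalizer hWN hz
        exact ⟨(⟨u, hu⟩, ⟨w, hw⟩), rfl⟩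
      let φ : W₁ × W₂ →* ↥(W₁ ⊔ W₂) :=
        { toFun := fun x => ⟨(x.1 : G) * x.2, Subgroup.mul_mem_sup x.1.2 x.2.2⟩
          map_one' := by ext; simp
          map_mul' := by
            rintro ⟨a₁, b₁⟩ ⟨a₂, b₂⟩
            ext
            have h1 : (a₂ : G) * b₁ = b₁ * a₂ := hW.2.2.2.1 a₂ a₂.2 b₁ b₁.2
            simp only [Prod.fst_mul, Prod.snd_mul, Subgroup.coe_mul]
            calc (a₁ : G) * a₂ * (b₁ * b₂) = a₁ * (a₂ * b₁) * b₂ := by group
              _ = a₁ * (b₁ * a₂) * b₂ := by rw [h1]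
              _ = a₁ * b₁ * (a₂ * b₂) := by group }
      have h1 := Subgroup.card_dvd_of_surjective φ hsurj
      rw [Nat.card_prod] at h1
      exact hpW.trans h1
    apply hκ
    rcases (hp.dvd_mul).mp hpW' with h1 | h1
    · have hpT : p ∈ sigma T := by
        refine (S1350.result hG T hT).1.2.1 p hp (h1.trans (Subgroup.card_dvd_of_le ?_))
        rw [hT1]; exact inf_le_left
      obtain ⟨g', hg'⟩ := (S1378.result hG).2 T N hT hN ⟨p, hpT, hpN⟩
      rw [hg', Equivariance.kappa_map]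
      obtain ⟨q, hq, hqd⟩ := Nat.exists_prime_and_dvd
        (fun h0 => hW₂ne ((Subgroup.card_eq_one).mp h0) : Nat.card W₂ ≠ 1)
      exact ⟨q, hT2.2.1 q hq hqd⟩
    · have hpM : p ∈ sigma M := by
        refine (S1350.result hG M hM).1.2.1 p hp (h1.trans (Subgroup.card_dvd_of_le ?_))
        rw [hW₂]; exact inf_le_left
      obtain ⟨g', hg'⟩ := (S1378.result hG).2 M N hM hN ⟨p, hpM, hpN⟩
      rw [hg', Equivariance.kappa_map]
      exact kappa_of_isOfTypeP hG hM ⟨_, _, _, h⟩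

end Cfsg.Agent.OddOrderCharacters.PF8
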