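import Mathlib
import Cfsg.Prelude.Def_OddOrderLocal
import Cfsg.Prelude.Def_OddOrderChar
import Cfsg.Agent.OddOrderLocal.FittingHall
import Cfsg.Agent.Solvable.FpfPGroup
import Cfsg.Agent.S0016
import Cfsg.Agent.S1536

/-!
# Peterfalvi (8.1), (8.2): groups of type F
-/

set_option autoImplicit false

open Cfsg
open scoped Pointwise

namespace Cfsg.Agent.OddOrderCharacters.PF8

universe u

section general

variable {M : Type u} [Group M] [Finite M]

/-- A group of odd order acting without fixed points by conjugation on a nontrivial normal subgroup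
has cyclic Sylow subgroups. -/
theorem isZGroup_of_fpf (K U₀ : Subgroup M) [K.Normal] (hK : K ≠ ⊥) (hodd : Odd (Nat.card U₀))
    (hfpf : ∀ u ∈ U₀, u ≠ 1 → ∀ x ∈ K, u * x = x * u → x = 1) : IsZGroup U₀ := by
  refine ⟨fun p hp P => ?_⟩
  have : Fact p.Prime := ⟨hp⟩
  have hUK : U₀ ≤ Subgroup.normalizer (K : Set M) := by
    rw [Subgroup.normalizer_eq_top]; exact le_top
  have hfpf' : ∀ a ∈ U₀, a ≠ 1 → K ⊓ Subgroup.centralizer {a} = ⊥ := by
    intro a ha ha1
    rw [eq_bot_iff]
    rintro x ⟨hxK, hxC⟩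
    rw [Subgroup.mem_bot]
    refine hfpf a ha ha1 x hxK ?_
    exact (Subgroup.mem_centralizer_singleton_iff.mp hxC).symm
  have huniq := Cfsg.Agent.Solvable.FpfPGroup.unique_subgroup_of_fpf U₀ K hK hUK hfpf' hp P.2
    (U₀.subtype.comp (P : Subgroup U₀).subtype)
    (U₀.subtype_injective.comp (P : Subgroup U₀).subtype_injective) (fun x => x.1.2)
  rcases Cfsg.Agent.S0016.result p P.2 huniq with h | ⟨h2, n, ⟨e⟩⟩
  · exact h
  · exfalso
    have h3 : Nat.card (P : Subgroup U₀) = 4 * 2 ^ n := by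
      rw [Nat.card_congr e.toEquiv, Nat.card_eq_fintype_card, QuaternionGroup.card]
    have h4 : 2 ∣ Nat.card U₀ := by
      refine Dvd.dvd.trans ?_ (Subgroup.card_subgroup_dvd_card (P : Subgroup U₀))
      rw [h3]
      exact ⟨2 * 2 ^ n, by ring⟩
    exact (Nat.not_even_iff_odd.mpr hodd) (even_iff_two_dvd.mpr h4)

/-- In a group with a cyclic Sylow `p`-subgroup, elements of order `p` generate conjugate subgroups. -/
theorem exists_conj_mem_zpowers {p : ℕ} [Fact p.Prime] (P : Sylow p M) (hP : IsCyclic P)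
    {g h : M} (hg : orderOf g = p) (hh : orderOf h = p) :
    ∃ c : M, c * g * c⁻¹ ∈ Subgroup.zpowers h := by
  classical
  have hp : p.Prime := Fact.out
  have hzp : ∀ x : M, orderOf x = p → IsPGroup p (Subgroup.zpowers x) := by
    intro x hx
    refine IsPGroup.of_card (n := 1) ?_
    rw [Nat.card_zpowers, hx, pow_one]
  obtain ⟨P₁, hP₁⟩ := (hzp g hg).exists_le_sylow
  obtain ⟨P₂, hP₂⟩ := (hzp h hh).exists_le_sylow
  obtain ⟨c, hc⟩ := MulAction.exists_smul_eq M P₁ P₂
  have hgP : c * g * c⁻¹ ∈ P₂ := by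
    rw [← hc]
    have h1 : g ∈ (P₁ : Subgroup M) := hP₁ (Subgroup.mem_zpowers g)
    have h2 : (MulAut.conj c) g ∈ (MulAut.conj c • (P₁ : Subgroup M)) :=
      Subgroup.smul_mem_pointwise_smul _ _ _ h1
    exact h2
  have hhP : h ∈ P₂ := hP₂ (Subgroup.mem_zpowers h)
  have hcyc : IsCyclic P₂ := by
    obtain ⟨d, hd⟩ := MulAction.exists_smul_eq M P P₂
    rw [← hd]
    exact isCyclic_of_surjective (Sylow.equivSMul P d).toMonoidHom (Sylow.equivSMul P d).surjective
  have _ : Fintype P₂ := Fintype.ofFinite _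
  refine ⟨c, ?_⟩
  let g' : P₂ := ⟨c * g * c⁻¹, hgP⟩
  let h' : P₂ := ⟨h, hhP⟩
  have hg' : g' ^ p = 1 := by
    apply Subtype.ext
    show (c * g * c⁻¹) ^ p = 1
    rw [conj_pow, ← hg, pow_orderOf_eq_one]
    simp
  have hh' : orderOf h' = p := by
    rw [Subgroup.orderOf_mk]
    exact hh
  have hcard := IsCyclic.card_pow_eq_one_le (α := P₂) (n := p) hp.pos
  have hsub : (Finset.univ.filter (fun x : P₂ => x ∈ Subgroup.zpowers h')) ⊆
      (Finset.univ.filter (fun x : P₂ => x ^ p = 1)) := by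
    intro x hx
    rw [Finset.mem_filter] at hx ⊢
    refine ⟨Finset.mem_univ _, ?_⟩
    obtain ⟨k, rfl⟩ := Subgroup.mem_zpowers_iff.mp hx.2
    have e : h' ^ p = 1 := orderOf_dvd_iff_pow_eq_one.mp (dvd_of_eq hh')
    rw [← zpow_natCast, ← zpow_mul, mul_comm, zpow_mul, zpow_natCast, e, one_zpow]
  have hcard2 : (Finset.univ.filter (fun x : P₂ => x ∈ Subgroup.zpowers h')).card = p := by
    rw [← Fintype.card_subtype, ← Nat.card_eq_fintype_card]
    have : Nat.card (Subgroup.zpowers h') = p := by rw [Nat.card_zpowers, hh']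
    exact this
  have heq := Finset.eq_of_subset_of_card_le hsub (by rw [hcard2]; exact hcard)
  have hmem : g' ∈ Finset.univ.filter (fun x : P₂ => x ^ p = 1) := by
    rw [Finset.mem_filter]; exact ⟨Finset.mem_univ _, hg'⟩
  rw [← heq, Finset.mem_filter] at hmem
  obtain ⟨k, hk⟩ := Subgroup.mem_zpowers_iff.mp hmem.2
  refine Subgroup.mem_zpowers_iff.mpr ⟨k, ?_⟩
  exact congrArg Subtype.val hk

end general

/-! ## PF8.TypeF : groups of type F (8.1), (8.2) -/
section typeF

variable {M : Type u} [Group M] [Finite M]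

/-- (8.2)(c), precise form. -/
theorem typeF_inertia (U U₁ : Subgroup M) (hH : (Nat.card (fittingHall M)).Coprime (fittingHall M).index)
    (hU₁ : ∀ x ∈ fittingHall M, x ≠ 1 → U ⊓ Subgroup.centralizer ({x} : Set M) ≤ U₁)
    (θ : ↥(fittingHall M) → ℂ)
    (hθ : IsIrrCharacter ↥(fittingHall M) θ) (h1 : θ ≠ fun _ => 1) (x : M) (hxU : x ∈ U)
    (hx : ∀ h : fittingHall M, θ ⟨x * h * x⁻¹, (fittingHall_normal M).conj_mem h h.2 x⟩ = θ h) :
    x ∈ U₁ := by
  obtain ⟨h, hh, hne, hcomm⟩ :=
    (Cfsg.Agent.S1536.result (fittingHall M) hH x).mp ⟨θ, hθ, h1, funext hx⟩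
  exact hU₁ h hh hne ⟨hxU, Subgroup.mem_centralizer_singleton_iff.mpr hcomm⟩

/-- (8.2)(c): in a group of type `F` the inertia group `T` of a nonprincipal irreducible character of
`H = M_F` has `T/H` abelian. -/
theorem typeF_inertia_comm (hF : IsOfTypeF M) (θ : ↥(fittingHall M) → ℂ)
    (hθ : IsIrrCharacter ↥(fittingHall M) θ) (h1 : θ ≠ fun _ => 1) (x y : M)
    (hx : ∀ h : fittingHall M, θ ⟨x * h * x⁻¹, (fittingHall_normal M).conj_mem h h.2 x⟩ = θ h)
    (hy : ∀ h : fittingHall M, θ ⟨y * h * y⁻¹, (fittingHall_normal M).conj_mem h h.2 y⟩ = θ h) :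
    x * y * x⁻¹ * y⁻¹ ∈ fittingHall M := by
  obtain ⟨-, -, -, -, U, -, hU, ⟨U₁, hU₁U, -, hab, hU₁⟩, -⟩ := hF
  have hH := OddOrderLocal.FittingHall.fittingHall_coprime (G := M)
  have hcf := Cfsg.Agent.Characters.Core.isIrr_isClassFunction hθ
  -- each element of the inertia group is `a * u` with `u ∈ U₁`
  have key : ∀ x : M, (∀ h : fittingHall M,
      θ ⟨x * h * x⁻¹, (fittingHall_normal M).conj_mem h h.2 x⟩ = θ h) →
      ∃ a ∈ fittingHall M, ∃ u ∈ U₁, x = a * u := by
    intro x hx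
    obtain ⟨⟨a, u⟩, hau⟩ := hU.2 x
    have hau' : (a : M) * (u : M) = x := hau
    refine ⟨a, a.2, u, ?_, hau'.symm⟩
    refine typeF_inertia U U₁ hH hU₁ θ hθ h1 u u.2 fun h => ?_
    have h2 := hcf ⟨(u : M) * h * (u : M)⁻¹, (fittingHall_normal M).conj_mem h h.2 u⟩ a
    rw [← h2, ← hx h]
    congr 1
    apply Subtype.ext
    show (a : M) * (u * h * (u : M)⁻¹) * (a : M)⁻¹ = x * h * x⁻¹
    rw [← hau']
    group
  obtain ⟨a, ha, u, hu, rfl⟩ := key x hx
  obtain ⟨b, hb, v, hv, rfl⟩ := key y hy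
  have huv : u * v = v * u := by
    have := hab.is_comm.comm ⟨u, hu⟩ ⟨v, hv⟩
    exact congrArg Subtype.val this
  have hn : (fittingHall M).Normal := fittingHall_normal M
  have e : a * u * (b * v) * (a * u)⁻¹ * (b * v)⁻¹ =
      a * (u * b * u⁻¹) * ((u * v * u⁻¹) * a⁻¹ * (u * v * u⁻¹)⁻¹) * (u * v * u⁻¹ * v⁻¹) * b⁻¹ := by
    group
  rw [e]
  refine mul_mem (mul_mem (mul_mem (mul_mem ha (hn.conj_mem b hb u))
    (hn.conj_mem _ (inv_mem ha) _)) ?_) (inv_mem hb)
  have : u * v * u⁻¹ * v⁻¹ = 1 := by rw [huv]; group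
  rw [this]
  exact one_mem _

/-- (8.2)(b): `M` is a Frobenius group with kernel `M_F` iff the Sylow subgroups of `U` are cyclic. -/
theorem typeF_frobenius_iff (hF : IsOfTypeF M) (U : Subgroup M)
    (hU : Subgroup.IsComplement' (fittingHall M) U) :
    (∀ x ∈ fittingHall M, x ≠ 1 → Subgroup.centralizer ({x} : Set M) ≤ fittingHall M) ↔
      ∀ (p : ℕ) [Fact p.Prime] (P : Sylow p U), IsCyclic P := by
  have hH := OddOrderLocal.FittingHall.fittingHall_coprime (G := M)
  obtain ⟨-, hodd, hne, -, U', -, hU', -, ⟨U₀, hU₀, hexp, hfpf⟩⟩ := hF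
  have hn : (fittingHall M).Normal := fittingHall_normal M
  constructor
  · intro hC p _ P
    have hfpf : ∀ u ∈ U, u ≠ 1 → ∀ x ∈ fittingHall M, u * x = x * u → x = 1 := by
      intro u hu hu1 x hx hux
      by_contra hx1
      have h1 : u ∈ fittingHall M := hC x hx hx1 (Subgroup.mem_centralizer_singleton_iff.mpr hux)
      have h2 := hU.disjoint
      rw [Subgroup.disjoint_def] at h2
      exact hu1 (h2 h1 hu)
    have hoddU : Odd (Nat.card U) := Odd.of_dvd_nat hodd (Subgroup.card_subgroup_dvd_card U)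
    have := isZGroup_of_fpf (fittingHall M) U hne hoddU hfpf
    infer_instance
  · intro hcyc x hx hx1 g₀ hg₀
    by_contra hgH
    -- a prime divisor of the order of `g₀` modulo `H`
    have hm1 : orderOf (g₀ : M ⧸ fittingHall M) ≠ 1 := by
      rw [Ne, orderOf_eq_one_iff, QuotientGroup.eq_one_iff]
      exact hgH
    obtain ⟨p, hp, hpm⟩ := Nat.exists_prime_and_dvd hm1
    have : Fact p.Prime := ⟨hp⟩
    have hpidx : p ∣ (fittingHall M).index := by
      rw [Subgroup.index_eq_card]
      exact hpm.trans (orderOf_dvd_natCard _)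
    have hpH : ¬ p ∣ Nat.card (fittingHall M) := by
      intro hd
      have := Nat.dvd_gcd hd hpidx
      rw [hH] at this
      exact hp.one_lt.ne' (Nat.dvd_one.mp this)
    have hpo : p ∣ orderOf g₀ := hpm.trans (orderOf_map_dvd (QuotientGroup.mk' (fittingHall M)) g₀)
    -- an element of order `p` centralizing `x`
    set g : M := g₀ ^ (orderOf g₀ / p) with hg
    have hgo : orderOf g = p := by
      rw [hg]
      exact orderOf_pow_orderOf_div (orderOf_pos g₀).ne' hpo
    have hgx : g * x = x * g := by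
      have h1 : Commute g₀ x := Subgroup.mem_centralizer_singleton_iff.mp hg₀
      exact (h1.pow_left _).eq
    -- an element of order `p` in `U₀`
    have hcardU' : Nat.card U' = (fittingHall M).index := by
      exact hU'.symm.index_eq_card.symm
    have hcardU : Nat.card U = (fittingHall M).index := by
      exact hU.symm.index_eq_card.symm
    obtain ⟨h₁, hh₁⟩ : ∃ h₁ : U₀, orderOf h₁ = p := by
      have h1 : p ∣ Nat.card U' := by rw [hcardU']; exact hpidx
      obtain ⟨y, hy⟩ := exists_prime_orderOf_dvd_card' p h1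
      have h2 : p ∣ Monoid.exponent U' := by
        rw [← hy]; exact Monoid.order_dvd_exponent y
      rw [← hexp] at h2
      exact exists_prime_orderOf_dvd_card' p (h2.trans Group.exponent_dvd_nat_card)
    have hh₁' : orderOf (h₁ : M) = p := by rw [Subgroup.orderOf_coe, hh₁]
    -- Sylow `p`-subgroups of `M` are cyclic
    obtain ⟨Q⟩ : Nonempty (Sylow p U) := inferInstance
    have hQc := hcyc p Q
    let Q' : Subgroup M := (Q : Subgroup U).map U.subtype
    have hQ'card : Nat.card Q' = p ^ (Nat.card M).factorization p := by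
      have h1 : Nat.card Q' = Nat.card (Q : Subgroup U) :=
        Subgroup.card_map_of_injective U.subtype_injective
      rw [h1, Sylow.card_eq_multiplicity]
      congr 1
      have h2 : Nat.card M = Nat.card (fittingHall M) * Nat.card U := by
        rw [hcardU, Subgroup.card_mul_index]
      rw [h2, Nat.factorization_mul Nat.card_pos.ne' Nat.card_pos.ne', Finsupp.add_apply,
        Nat.factorization_eq_zero_of_not_dvd hpH, zero_add]
    have hQ'cyc : IsCyclic Q' :=
      isCyclic_of_surjective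
        ((Q : Subgroup U).equivMapOfInjective U.subtype U.subtype_injective).toMonoidHom
        ((Q : Subgroup U).equivMapOfInjective U.subtype U.subtype_injective).surjective
    obtain ⟨c, hc⟩ := exists_conj_mem_zpowers (Sylow.ofCard Q' hQ'card) hQ'cyc hgo hh₁'
    have hcU : c * g * c⁻¹ ∈ U₀ := (Subgroup.zpowers_le.mpr h₁.2) hc
    have hcne : c * g * c⁻¹ ≠ 1 := by
      intro h0
      have h1 : g = 1 := by
        have : g = c⁻¹ * (c * g * c⁻¹) * c := by group
        rw [this, h0]; group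
      rw [h1, orderOf_one] at hgo
      exact hp.one_lt.ne hgo
    have h2 := hfpf _ hcU hcne (c * x * c⁻¹) (hn.conj_mem x hx c) (by
      have e1 : c * g * c⁻¹ * (c * x * c⁻¹) = c * (g * x) * c⁻¹ := by group
      have e2 : c * x * c⁻¹ * (c * g * c⁻¹) = c * (x * g) * c⁻¹ := by group
      rw [e1, e2, hgx])
    apply hx1
    have : x = c⁻¹ * (c * x * c⁻¹) * c := by group
    rw [this, h2]; group

/-- (8.2)(a): the orders of a subgroup `U₀` as in the definition of type `F`. -/
theorem typeF_card_U₀ (U U₀ : Subgroup M) (hodd : Odd (Nat.card M)) (hne : fittingHall M ≠ ⊥)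
    (hle : U₀ ≤ U) (hexp : Monoid.exponent U₀ = Monoid.exponent U)
    (hfpf : ∀ u ∈ U₀, u ≠ 1 → ∀ x ∈ fittingHall M, u * x = x * u → x = 1) :
    Nat.card U₀ = Monoid.exponent U := by
  have hn : (fittingHall M).Normal := fittingHall_normal M
  have := isZGroup_of_fpf (fittingHall M) U₀ hne
    (Odd.of_dvd_nat hodd (Subgroup.card_subgroup_dvd_card U₀)) hfpf
  rw [← hexp, IsZGroup.exponent_eq_card]

end typeF

end Cfsg.Agent.OddOrderCharacters.PF8
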