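import Cfsg.Agent.OddOrderLocal.W.S1539w

/-!
# Peterfalvi (8.18)(c), (d): consequences of `W.S1539w`
-/

set_option autoImplicit false

open Cfsg

namespace Cfsg.Agent.OddOrderCharacters.PF8

open Cfsg.Agent.OddOrderCharacters.PFDefs

universe u

variable {G : Type u} [Group G] [Finite G]

/-- (8.18)(c) : for non-conjugate `S`, `T`. -/
theorem disjoint_tilde_or (hG : IsMinSimpleOddOrder G) {S T : Subgroup G} (hS : IsCoatom S)
    (hT : IsCoatom T) (hnc : ∀ g : G, T.map (MulAut.conj g).toMonoidHom ≠ S) :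
    tildeOf S (typeA1 S) ∩ tildeOf T (typeA' T) = ∅ ∨
      tildeOf T (typeA1 T) ∩ tildeOf S (typeA' S) = ∅ :=
  (Cfsg.Agent.OddOrderLocal.W.S1539w.result' hG S T hS hT hnc).2.2.2

/-- (8.18)(a) -/
theorem centralizer_of_mem_inter (hG : IsMinSimpleOddOrder G) {S T : Subgroup G} (hS : IsCoatom S)
    (hT : IsCoatom T) (hnc : ∀ g : G, T.map (MulAut.conj g).toMonoidHom ≠ S) {x : G}
    (hx1 : x ∈ typeA1 S) (hx : x ∈ typeA' T) :
    ¬ Subgroup.centralizer ({x} : Set G) ≤ S ∧ Subgroup.centralizer ({x} : Set G) ≤ T :=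
  (Cfsg.Agent.OddOrderLocal.W.S1539w.result' hG S T hS hT hnc).2.1 x ⟨hx1, hx⟩

/-- (8.18)(b) -/
theorem exists_supports'_iff (hG : IsMinSimpleOddOrder G) {S T : Subgroup G} (hS : IsCoatom S)
    (hT : IsCoatom T) (hnc : ∀ g : G, T.map (MulAut.conj g).toMonoidHom ≠ S) :
    (∃ g : G, Supports' (T.map (MulAut.conj g).toMonoidHom) S) ↔
      (tildeOf S (typeA1 S) ∩ tildeOf T (typeA' T)).Nonempty :=
  (Cfsg.Agent.OddOrderLocal.W.S1539w.result' hG S T hS hT hnc).2.2.1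

end Cfsg.Agent.OddOrderCharacters.PF8
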